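import Cfsg.Agent.H80.Watanabe.Main

/-!
The pair below a maximal pair on the trivial subgroup is the block itself.
-/

set_option linter.style.haveILetI false

namespace Cfsg.Agent.H80.Watanabe

open H83 H83.Star MonoidAlgebra

universe u

variable {p : ℕ} [hp : Fact p.Prime] {M : Ideal Cfsg.AlgInt} {G : Type u} [Group G] [Fintype G]
  {B : Set (Cfsg.IrrCharacter G)} {P : Subgroup G}
  {c : Set (Cfsg.IrrCharacter (Subgroup.centralizer (P : Set G)))}

theorem bot_pair (hM : Cfsg.IsPModular p M) (hmax : Cfsg.IsMaximalBrauerPair p M B P c) :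
    pairRank p M P c ⊥ = Cfsg.blockRank p B ∧ pairCard p M P c ⊥ = Nat.card B := by
  classical
  cases nonempty_fintype (Subgroup.centralizer ((⊥ : Subgroup G) : Set G))
  have hPc := hmax.1.1
  obtain ⟨f, hf, hle⟩ := H82.exists_subpair hM hPc (bot_le : (⊥ : Subgroup G) ≤ P)
  have hfB := H82.isBrauerPairOf_of_le hM hmax.1 hle
  have htop : Subgroup.centralizer ((⊥ : Subgroup G) : Set G) = ⊤ :=
    eq_top_iff.2 fun x _ => Subgroup.mem_centralizer_iff.2 fun q hq => by
      rw [Subgroup.mem_bot.1 hq, one_mul, mul_one]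
  set φ := (MulEquiv.subgroupCongr htop).trans Subgroup.topEquiv with hφ
  set B' := H83.irrComp φ '' B with hB'
  have hB'b : Cfsg.IsPBlock M B' := H82.isPBlock_image_irrComp _ hmax.1.2.1
  obtain ⟨ξ, hξ⟩ := BlockBasic.isPBlock_nonempty hM hf.2
  have hmem : ξ ∈ B' := by
    by_contra hne
    have h1 := BlockBasic.omega_blockElem B' ξ
    rw [if_neg hne] at h1
    have h2 := H82.brOmega_blockElem_of_isBrauerPairOf hfB hξ
    rw [H82.brOmega_eq, show H82.br ⊥ (BlockBasic.blockElem B) = BlockBasic.blockElem B' from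
      coeff_injective (Finsupp.ext fun k => by
        rw [H82.coeff_br, BlockBasic.coeff_blockElem, BlockBasic.coeff_blockElem,
          H82.blockCoeff_image_irrComp]; rfl), h1] at h2
    exact BlockBasic.not_memLocalIdeal_one hM
      (by simpa using BlockBasic.memLocalIdeal_sub hM (BlockBasic.memLocalIdeal_zero hM) h2)
  have hfe : f = B' := BlockBasic.isPBlock_eq_of_mem hM hf.2 hB'b hξ hmem
  refine ⟨?_, ?_⟩
  · rw [pairRank_eq hM hPc hle, hfe, hB', H25.KleinDefect.blockRank_irrComp]
  · rw [pairCard_eq hM hPc hle, hfe, hB', Nat.card_image_of_injective (irrComp_inj _)]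

end Cfsg.Agent.H80.Watanabe
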