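import Cfsg.Agent.H80.Watanabe.Local
import Mathlib.GroupTheory.FiniteAbelian.Duality
import Mathlib.RingTheory.RootsOfUnity.AlgebraicallyClosed
import Mathlib.Analysis.Complex.Polynomial.Basic

/-!
Watanabe's comparison of the pairs below a maximal pair with commutative subgroup: enlarging by
an element fixed by the inertial stabilizer changes neither the rank nor the number of characters.
-/

set_option linter.style.haveILetI false

namespace Cfsg.Agent.H80.Watanabe

open H83 H83.Star MonoidAlgebra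

universe u

variable {p : ℕ} [hp : Fact p.Prime] {M : Ideal Cfsg.AlgInt} {G : Type u} [Group G] [Fintype G]
  {B : Set (Cfsg.IrrCharacter G)} {P : Subgroup G}
  {c : Set (Cfsg.IrrCharacter (Subgroup.centralizer (P : Set G)))}

/-- The inertial index is prime to `p`. -/
theorem not_dvd_index_stab (hM : Cfsg.IsPModular p M) (hmax : Cfsg.IsMaximalBrauerPair p M B P c)
    (hab : ∀ x ∈ P, ∀ y ∈ P, x * y = y * x) {S : Subgroup G} (hS : S ≤ stab P c)
    (hCS : Subgroup.centralizer (P : Set G) ≤ S) :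
    ¬ p ∣ (Subgroup.centralizer (P : Set G)).relIndex S := by
  have hPc := hmax.1.1
  have hT := H82.mem_pairStab hM hPc.2
  set T := H82.pairStab (⟨P, c⟩ : Cfsg.BrauerPairIdx G) with hTdef
  obtain ⟨FT, h⟩ := H82.exists_localBlock_stab hM hPc hT
  have hPT : P ≤ T := H82.le_stab hM hPc.2 hT
  obtain ⟨s, -, hs⟩ := h.exists_conj_card hM hmax hmax.1
  have hcard : p ^ Cfsg.blockDefect p FT ≤ Nat.card ↥(P ⊓ T) :=
    hs.trans ((Subgroup.card_le_of_le inf_le_left).trans (by rw [inf_eq_left.mpr hPT]))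
  have hnd := h.not_dvd_index hM hPT
    (h.isDefectGroup_inf hM hPc Relation.ReflTransGen.refl hcard)
  have hle : (P ⊓ T).subgroupOf T ≤ (Subgroup.centralizer (P : Set G)).subgroupOf T :=
    Subgroup.comap_mono (inf_le_left.trans (le_centralizer_of_comm hab le_rfl le_rfl))
  rw [sup_eq_right.mpr hle] at hnd
  exact fun hd => hnd (hd.trans ((dvd_mul_right _ _).trans
    (dvd_of_eq (Subgroup.relIndex_mul_relIndex _ _ _ hCS (show S ≤ T from hS)))))

/-- A stable linear character which is nontrivial at a fixed element. -/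
theorem exists_stable_character (hM : Cfsg.IsPModular p M)
    (hmax : Cfsg.IsMaximalBrauerPair p M B P c) (hab : ∀ x ∈ P, ∀ y ∈ P, x * y = y * x)
    {S : Subgroup G} (hS : S ≤ stab P c) (hCS : Subgroup.centralizer (P : Set G) ≤ S)
    {Z : Subgroup G} (hZ : ∀ t ∈ S, ∀ z ∈ Z, t * z * t⁻¹ ∈ Z) {w : G} (hw : w ∈ P) (hwZ : w ∉ Z)
    (hwS : ∀ t ∈ S, t * w * t⁻¹ = w) :
    ∃ lam : P →* ℂˣ, (∀ (t : G) (ht : t ∈ stab P c), t ∈ S → ∀ v : P,
        lam ⟨t * (v : G) * t⁻¹, conj_mem_of_stab ht v.2⟩ = lam v) ∧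
      (∀ v : P, (v : G) ∈ Z → lam v = 1) ∧ lam ⟨w, hw⟩ ≠ 1 := by
  classical
  letI : CommGroup P :=
    { (inferInstance : Group P) with mul_comm := fun a b => Subtype.ext (hab a a.2 b b.2) }
  set K := Z.subgroupOf P
  obtain ⟨φ, hφ⟩ := CommGroup.exists_apply_ne_one_of_hasEnoughRootsOfUnity (P ⧸ K) ℂ
    (a := QuotientGroup.mk (⟨w, hw⟩ : P)) fun h => hwZ
      (Subgroup.mem_subgroupOf.1 ((QuotientGroup.eq_one_iff _).1 h))
  let mu : P →* ℂˣ := φ.comp (QuotientGroup.mk' K)
  have hmuZ : ∀ v : P, (v : G) ∈ Z → mu v = 1 := fun v hv => by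
    show φ (QuotientGroup.mk v) = 1
    rw [(QuotientGroup.eq_one_iff v).2 (Subgroup.mem_subgroupOf.2 hv), map_one]
  set C := (Subgroup.centralizer (P : Set G)).subgroupOf S with hC
  haveI : C.Normal := Subgroup.normal_subgroupOf_of_le_normalizer fun y hy =>
    H82.normalizer_le_normalizer_centralizer P
      ((H82.stabilizesBlock_iff_conjPair hM hmax.1.1.2).2 (hS hy)).1
  let cS : S → P → P := fun s v => ⟨(s : G) * v * (s : G)⁻¹, conj_mem_of_stab (hS s.2) v.2⟩
  have hcSmul : ∀ (s : S) (v v' : P), cS s (v * v') = cS s v * cS s v' := fun s v v' =>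
    Subtype.ext (by
      show (s : G) * ((v : G) * v') * (s : G)⁻¹ = (s : G) * v * (s : G)⁻¹ * ((s : G) * v' * (s : G)⁻¹)
      group)
  have hcScomp : ∀ (s t : S) (v : P), cS s (cS t v) = cS (s * t) v := fun s t v =>
    Subtype.ext (by
      show (s : G) * ((t : G) * v * (t : G)⁻¹) * (s : G)⁻¹ = (s : G) * t * v * ((s : G) * t)⁻¹
      group)
  have hcSC : ∀ s s' : S, (QuotientGroup.mk s : S ⧸ C) = QuotientGroup.mk s' → ∀ v,
      cS s v = cS s' v := by
    intro s s' h v
    have h1 : (s : G)⁻¹ * (s' : G) ∈ Subgroup.centralizer (P : Set G) :=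
      Subgroup.mem_subgroupOf.1 ((QuotientGroup.eq (s := C)).1 h)
    have h2 := Subgroup.mem_centralizer_iff.1 h1 (v : G) v.2
    refine Subtype.ext ?_
    show (s : G) * v * (s : G)⁻¹ = (s' : G) * v * (s' : G)⁻¹
    calc (s : G) * v * (s : G)⁻¹
        = (s : G) * ((v : G) * ((s : G)⁻¹ * s')) * (s' : G)⁻¹ := by group
      _ = (s : G) * ((s : G)⁻¹ * s' * v) * (s' : G)⁻¹ := by rw [h2]
      _ = _ := by group
  cases nonempty_fintype (S ⧸ C)
  let lam : P →* ℂˣ := MonoidHom.mk' (fun v => ∏ q : S ⧸ C, mu (cS q.out v)) fun v v' => by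
    simp only [hcSmul, map_mul, Finset.prod_mul_distrib]
  refine ⟨lam, fun t ht htS v => ?_, fun v hv => ?_, ?_⟩
  · show ∏ q : S ⧸ C, mu (cS q.out (cS ⟨t, htS⟩ v)) = ∏ q : S ⧸ C, mu (cS q.out v)
    refine Fintype.prod_equiv (Equiv.mulRight (QuotientGroup.mk (⟨t, htS⟩ : S) : S ⧸ C)) _ _
      fun q => congrArg mu ?_
    rw [hcScomp]
    refine hcSC _ _ ?_ v
    rw [QuotientGroup.mk_mul, Equiv.coe_mulRight, QuotientGroup.out_eq', QuotientGroup.out_eq']
  · exact Finset.prod_eq_one fun q _ => hmuZ _ (hZ _ q.out.2 _ hv)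
  · show ∏ q : S ⧸ C, mu (cS q.out ⟨w, hw⟩) ≠ 1
    rw [Finset.prod_congr rfl (g := fun _ => mu ⟨w, hw⟩) fun q _ =>
      congrArg mu (Subtype.ext (hwS _ q.out.2)), Finset.prod_const, Finset.card_univ]
    intro h
    have h1 : orderOf (mu ⟨w, hw⟩) ∣ Fintype.card (S ⧸ C) := orderOf_dvd_of_pow_eq_one h
    obtain ⟨k, hk⟩ := hmax.1.1.1 ⟨w, hw⟩
    have h2 : orderOf (mu ⟨w, hw⟩) ∣ p ^ k :=
      orderOf_dvd_of_pow_eq_one (by rw [← map_pow, hk, map_one])
    refine hφ (orderOf_eq_one_iff.1 (Nat.eq_one_of_dvd_coprimes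
      ((hp.out.coprime_iff_not_dvd.2 (fun hd => not_dvd_index_stab hM hmax hab hS hCS ?_)).pow_left k)
      h2 h1))
    rw [← Nat.card_eq_fintype_card] at hd
    exact hd

omit [Fintype G] in
theorem cle {Q R : Subgroup G} (h : Q ≤ R) :
    Subgroup.centralizer (R : Set G) ≤ Subgroup.centralizer (Q : Set G) :=
  Subgroup.centralizer_le h

omit [Fintype G] in
theorem mem_centralizer_sup_zpowers {Q : Subgroup G} {v x : G} :
    x ∈ Subgroup.centralizer ((Q ⊔ Subgroup.zpowers v : Subgroup G) : Set G) ↔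
      x ∈ Subgroup.centralizer (Q : Set G) ∧ x ∈ Subgroup.centralizer ({v} : Set G) := by
  constructor
  · intro h
    exact ⟨Subgroup.centralizer_le (le_sup_left : Q ≤ Q ⊔ Subgroup.zpowers v) h,
      Subgroup.mem_centralizer_singleton_iff.2
        (Subgroup.mem_centralizer_iff.1 h v (le_sup_right (a := Q) (Subgroup.mem_zpowers v))).symm⟩
  · rintro ⟨h1, h2⟩
    have hle : Q ⊔ Subgroup.zpowers v ≤ Subgroup.centralizer ({x} : Set G) := sup_le
      (fun q hq => Subgroup.mem_centralizer_singleton_iff.2 (Subgroup.mem_centralizer_iff.1 h1 q hq))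
      (Subgroup.zpowers_le.2 (Subgroup.mem_centralizer_singleton_iff.2
        (Subgroup.mem_centralizer_singleton_iff.1 h2).symm))
    exact Subgroup.mem_centralizer_iff.2 fun q hq =>
      Subgroup.mem_centralizer_singleton_iff.1 (hle hq)

open scoped Classical in
/-- Watanabe's comparison. -/
theorem pairRank_pairCard_sup (hM : Cfsg.IsPModular p M)
    (hmax : Cfsg.IsMaximalBrauerPair p M B P c) (hab : ∀ x ∈ P, ∀ y ∈ P, x * y = y * x) (n : ℕ) :
    ∀ Q : Subgroup G, Q ≤ P → Nat.card (Subgroup.centralizer (Q : Set G)) = n → ∀ w ∈ P,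
      (∀ t ∈ stab P c, t ∈ Subgroup.centralizer (Q : Set G) → t * w * t⁻¹ = w) →
      pairRank p M P c Q = pairRank p M P c (Q ⊔ Subgroup.zpowers w) ∧
        pairCard p M P c Q = pairCard p M P c (Q ⊔ Subgroup.zpowers w) := by
  induction n using Nat.strong_induction_on with
  | _ n ih =>
  intro Q hQP hn w hw hfix
  have hPc := hmax.1.1
  set CQ := Subgroup.centralizer (Q : Set G) with hCQ
  set Z := P ⊓ Subgroup.centralizer (CQ : Set G) with hZ
  have hsup : ∀ v ∈ P, Q ⊔ Subgroup.zpowers v ≤ P := fun v hv =>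
    sup_le hQP (Subgroup.zpowers_le.2 hv)
  have hcent : ∀ v ∈ Z, Subgroup.centralizer ((Q ⊔ Subgroup.zpowers v : Subgroup G) : Set G) = CQ := by
    intro v hv
    refine le_antisymm (cle le_sup_left) fun x hx => ?_
    exact mem_centralizer_sup_zpowers.2 ⟨hx, Subgroup.mem_centralizer_singleton_iff.2
      (Subgroup.mem_centralizer_iff.1 hv.2 x hx)⟩
  by_cases hwZ : w ∈ Z
  · exact pair_eq_of_centralizer_eq hM hPc hab le_sup_left (hsup w hw) (hcent w hwZ)
  set S := stab P c ⊓ CQ with hS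
  set Q₂ := Q ⊔ Subgroup.zpowers w with hQ₂
  have hS₂ : stab P c ⊓ Subgroup.centralizer (Q₂ : Set G) = S := by
    refine le_antisymm (inf_le_inf_left _ (cle le_sup_left)) fun t ht =>
      ⟨ht.1, mem_centralizer_sup_zpowers.2 ⟨ht.2, ?_⟩⟩
    exact Subgroup.mem_centralizer_singleton_iff.2 (mul_inv_eq_iff_eq_mul.1 (hfix t ht.1 ht.2))
  set δ : ℂ := (pairRank p M P c Q : ℂ) - (pairRank p M P c Q₂ : ℂ) with hδ
  have key : ∀ lam : P →* ℂˣ, (∀ (t : G) (ht : t ∈ stab P c), t ∈ CQ → ∀ v : P,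
        lam ⟨t * (v : G) * t⁻¹, conj_mem_of_stab ht v.2⟩ = lam v) →
      (∀ v : P, (v : G) ∈ Z → lam v = 1) →
      (Nat.card S : ℂ) * ((Finset.univ.filter fun v : P => (v : G) ∈ Z).card : ℂ) * δ =
        if lam = 1 then (Nat.card S : ℂ) * (pairCard p M P c Q : ℂ) -
          (Nat.card S : ℂ) * (pairCard p M P c Q₂ : ℂ) else 0 := by
    intro lam hst hlamZ
    have h1 := count_identity_local hM hmax hab hQP lam hst
    have h2 := count_identity_local hM hmax hab (hsup w hw) lam fun t ht htC v =>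
      hst t ht (cle le_sup_left htC) v
    rw [← hS] at h1
    rw [hS₂] at h2
    have hterm : ∀ v : P,
        (Nat.card (S ⊓ Subgroup.centralizer ({(v : G)} : Set G) : Subgroup G) : ℂ) * (lam v : ℂ) *
            (pairRank p M P c (Q ⊔ Subgroup.zpowers (v : G)) : ℂ) -
          (Nat.card (S ⊓ Subgroup.centralizer ({(v : G)} : Set G) : Subgroup G) : ℂ) * (lam v : ℂ) *
            (pairRank p M P c (Q₂ ⊔ Subgroup.zpowers (v : G)) : ℂ) =
        if (v : G) ∈ Z then (Nat.card S : ℂ) * δ else 0 := by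
      intro v
      rw [show Q₂ ⊔ Subgroup.zpowers (v : G) = Q ⊔ Subgroup.zpowers (v : G) ⊔ Subgroup.zpowers w from
        sup_right_comm _ _ _]
      split_ifs with hv
      · have e1 := (pair_eq_of_centralizer_eq hM hPc hab le_sup_left (hsup v v.2) (hcent _ hv)).1
        have hle : Q ⊔ Subgroup.zpowers (v : G) ⊔ Subgroup.zpowers w ≤ P :=
          sup_le (hsup v v.2) (Subgroup.zpowers_le.2 hw)
        have e2 := (pair_eq_of_centralizer_eq hM hPc hab
          (sup_le_sup_right le_sup_left _ : Q₂ ≤ Q ⊔ Subgroup.zpowers (v : G) ⊔ Subgroup.zpowers w)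
          hle (by
            ext x
            simp only [mem_centralizer_sup_zpowers]
            exact ⟨fun h => ⟨h.1.1, h.2⟩, fun h =>
              ⟨mem_centralizer_sup_zpowers.1 ((hcent _ hv).ge h.1), h.2⟩⟩)).1
        rw [← e1, ← e2, hlamZ v hv, Units.val_one, hδ, inf_eq_left.2 fun x hx =>
          Subgroup.mem_centralizer_singleton_iff.2 (Subgroup.mem_centralizer_iff.1 hv.2 x hx.2)]
        ring
      · have hlt : Nat.card (Subgroup.centralizer ((Q ⊔ Subgroup.zpowers (v : G) : Subgroup G) : Set G)) < n := by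
          rw [← hn]
          refine lt_of_le_of_ne (Subgroup.card_le_of_le (cle le_sup_left))
            fun he => hv ⟨v.2, Subgroup.mem_centralizer_iff.2 fun x hx => ?_⟩
          have heq : Subgroup.centralizer ((Q ⊔ Subgroup.zpowers (v : G) : Subgroup G) : Set G) = CQ :=
            Subgroup.eq_of_le_of_card_ge (cle le_sup_left) he.ge
          exact Subgroup.mem_centralizer_singleton_iff.1
            (mem_centralizer_sup_zpowers.1 (heq.ge hx)).2
        rw [(ih _ hlt _ (hsup v v.2) rfl w hw fun t ht htC =>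
          hfix t ht (mem_centralizer_sup_zpowers.1 htC).1).1, sub_self]
    have h : ∑ v : P, (if (v : G) ∈ Z then (Nat.card S : ℂ) * δ else 0) =
        (if lam = 1 then (Nat.card S : ℂ) * (pairCard p M P c Q : ℂ) else 0) -
          (if lam = 1 then (Nat.card S : ℂ) * (pairCard p M P c Q₂ : ℂ) else 0) := by
      rw [← Finset.sum_congr rfl fun v _ => hterm v, Finset.sum_sub_distrib]
      exact congrArg₂ (· - ·) h1 h2
    rw [Finset.sum_ite, Finset.sum_const, Finset.sum_const_zero, add_zero, nsmul_eq_mul] at h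
    rw [mul_comm (Nat.card S : ℂ), mul_assoc, h]
    split_ifs <;> ring
  have hS0 : (Nat.card S : ℂ) ≠ 0 := Nat.cast_ne_zero.2 Nat.card_pos.ne'
  have hδ0 : δ = 0 := by
    have hCS : Subgroup.centralizer (P : Set G) ≤ S := le_inf
      (fun x hx => H82.conjPair_of_centralizes c hx) (cle hQP)
    have hZst : ∀ t ∈ S, ∀ z ∈ Z, t * z * t⁻¹ ∈ Z := by
      intro t ht z hz
      refine ⟨conj_mem_of_stab ht.1 hz.1, Subgroup.mem_centralizer_iff.2 fun x hx => ?_⟩
      have hx' : t⁻¹ * x * t ∈ CQ := CQ.mul_mem (CQ.mul_mem (CQ.inv_mem ht.2) hx) ht.2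
      have h := Subgroup.mem_centralizer_iff.1 hz.2 _ hx'
      calc x * (t * z * t⁻¹) = t * (t⁻¹ * x * t * z) * t⁻¹ := by group
        _ = t * (z * (t⁻¹ * x * t)) * t⁻¹ := by rw [h]
        _ = _ := by group
    obtain ⟨lam, hst, hlamZ, hlw⟩ := exists_stable_character hM hmax hab (inf_le_left : S ≤ _) hCS
      hZst hw hwZ fun t ht => hfix t ht.1 ht.2
    have h := key lam (fun t ht htC v => hst t ht ⟨ht, htC⟩ v) hlamZ
    rw [if_neg fun h1 => hlw (by rw [h1]; rfl)] at h
    refine (mul_eq_zero.1 h).resolve_left (mul_ne_zero hS0 (Nat.cast_ne_zero.2 ?_))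
    exact Finset.card_ne_zero.2 ⟨1, Finset.mem_filter.2 ⟨Finset.mem_univ _, Z.one_mem⟩⟩
  have h := key 1 (fun _ _ _ _ => rfl) fun _ _ => rfl
  rw [if_pos rfl, hδ0, mul_zero, ← mul_sub, eq_comm, mul_eq_zero, sub_eq_zero] at h
  exact ⟨by exact_mod_cast sub_eq_zero.1 (hδ ▸ hδ0), by exact_mod_cast h.resolve_left hS0⟩

end Cfsg.Agent.H80.Watanabe
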