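import Cfsg.Agent.H83.StarNorm
import Cfsg.Agent.H83.SectionSum
import Cfsg.Agent.S4642

/-!
The trace of a star product on the characters of a block, counted by subsections.
-/

set_option linter.style.haveILetI false

open scoped ComplexConjugate

namespace Cfsg.Agent.H80.Watanabe

open H83 H83.Star MonoidAlgebra

universe u

variable {p : ℕ} [hp : Fact p.Prime] {M : Ideal Cfsg.AlgInt} {G : Type u} [Group G] [Fintype G]
  {B : Set (Cfsg.IrrCharacter G)}

/-- A block of the centralizer of a p-element induces the block exactly when it gives a pair. -/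
theorem induced_iff_pair (hM : Cfsg.IsPModular p M) (hB : Cfsg.IsPBlock M B) {x : G}
    (hx : ∃ k, orderOf x = p ^ k) (b : Set (Cfsg.IrrCharacter (cen x))) :
    Cfsg.IsInducedBlock M (cen x) b B ↔ Cfsg.IsBrauerPairOf p M B (Subgroup.zpowers x) b := by
  obtain ⟨k, hk⟩ := hx
  have hxp : IsPGroup p (Subgroup.zpowers x) :=
    IsPGroup.of_card (n := k) (by rw [Nat.card_zpowers, hk])
  obtain ⟨χ, hχ⟩ := BlockBasic.isPBlock_nonempty hM hB
  refine (S4642.isInducedBlock_centralizer_iff hM hxp hB hχ).trans ?_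
  constructor
  · rintro ⟨hf, h⟩
    obtain ⟨ξ, hξ⟩ := BlockBasic.isPBlock_nonempty hM hf
    exact H82.isBrauerPairOf_of_mem hM hB ⟨hxp, hf⟩ hξ (h ξ hξ)
  · exact fun h => ⟨h.1.2, fun ξ hξ => H82.brOmega_blockElem_of_isBrauerPairOf h hξ⟩

open scoped Classical in
theorem blockPart_shift_eq {x : G} (C : Subgroup G) [Fintype C] (hxC : x ∈ C)
    (χ : Cfsg.IrrCharacter G) {a : Cfsg.IrrCharacter C → ℂ}
    (ha : ∀ (ψ : Cfsg.IrrCharacter C) (c : C), (ψ : C → ℂ) (⟨x, hxC⟩ * c) = a ψ * (ψ : C → ℂ) c)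
    (b : Set (Cfsg.IrrCharacter C)) (s : C) :
    Cfsg.blockPart b (fun c : C => (χ : G → ℂ) (x * (c : G))) s =
      ∑ ψ ∈ Finset.univ.filter (fun ψ : Cfsg.IrrCharacter C => ψ ∈ b),
        (H83.mult χ ψ : ℂ) * a ψ * (ψ : C → ℂ) s := by
  have hθ : (fun c : C => (χ : G → ℂ) (x * (c : G))) =
      ∑ ψ : Cfsg.IrrCharacter C, ((H83.mult χ ψ : ℂ) * a ψ) • (ψ : C → ℂ) := by
    funext c
    rw [show x * (c : G) = ((⟨x, hxC⟩ * c : C) : G) from rfl, restrict_eq_sum]
    simp only [Finset.sum_apply, Pi.smul_apply, smul_eq_mul]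
    exact Finset.sum_congr rfl fun ψ _ => by rw [ha]; ring
  rw [Cfsg.blockPart, Subsingleton.elim (Fintype.ofFinite C) ‹Fintype C›,
    BlockBasic.finsum_mem_eq_sum_ite, Finset.sum_filter]
  refine Finset.sum_congr rfl fun ψ _ => ?_
  rw [hθ, CharBasic.classInner_sum_irr]

open scoped Classical in
/-- Orthogonality of the parts, and their vanishing outside the block. -/
theorem sum_parts (hM : Cfsg.IsPModular p M) (hB : Cfsg.IsPBlock M B) {x : G} {k : ℕ}
    (hx : orderOf x = p ^ k) (C : Subgroup G) [Fintype C]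
    (hC : C = Subgroup.centralizer ({x} : Set G)) {b b' : Set (Cfsg.IrrCharacter C)}
    (hb : Cfsg.IsPBlock M b) (hb' : Cfsg.IsPBlock M b') {s : C} (hs : ¬ p ∣ orderOf s) :
    (∑ χ : Cfsg.IrrCharacter G, if χ ∈ B then
        conj (Cfsg.blockPart b' (fun c : C => (χ : G → ℂ) (x * (c : G))) s) *
          Cfsg.blockPart b (fun c : C => (χ : G → ℂ) (x * (c : G))) s
        else 0) =
      if Cfsg.IsInducedBlock M C b B then
        ∑ ψ : Cfsg.IrrCharacter C,
          if ψ ∈ b ∧ ψ ∈ b' then conj ((ψ : C → ℂ) s) * (ψ : C → ℂ) s else 0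
      else 0 := by
  subst hC
  split_ifs with hind
  · exact H83.sum_shift_parts hM hx hind hb' hs hs
  · refine Finset.sum_eq_zero fun χ _ => ?_
    split_ifs with hχ
    · rw [Cores.second_main hM hx hB hχ hb hind s hs, mul_zero]
    · rfl

/-- The sum of the weights times the ranks of the pairs at one element. -/
noncomputable def sectionWeight (p : ℕ) (M : Ideal Cfsg.AlgInt) (B : Set (Cfsg.IrrCharacter G))
    (Lam : G → MonoidAlgebra ℂ G → ℂ) (x : G) : ℂ :=
  ∑ b ∈ (Set.toFinite {b : Set (Cfsg.IrrCharacter (cen x)) |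
      Cfsg.IsBrauerPairOf p M B (Subgroup.zpowers x) b}).toFinset,
    Lam x (H82.blockUp (cen x) b) * (Cfsg.blockRank p b : ℂ)

open scoped Classical in
/-- The trace of a star product at one section. -/
theorem sum_section_trace (hM : Cfsg.IsPModular p M) (hB : Cfsg.IsPBlock M B)
    (Lam : G → MonoidAlgebra ℂ G → ℂ) {x : G} (hx : ∃ k, orderOf x = p ^ k) :
    ∑ s ∈ Finset.univ.filter (fun s : G => s * x = x * s ∧ ¬ p ∣ orderOf s),
        (∑ χ : Cfsg.IrrCharacter G, if χ ∈ B then
          starChar p M (χ : G → ℂ) Lam (x * s) * conj ((χ : G → ℂ) (x * s)) else 0) =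
      (Nat.card (cen x) : ℂ) * sectionWeight p M B Lam x := by
  cases nonempty_fintype (cen x)
  obtain ⟨a, ha⟩ := subgroup_scalars (self_mem_cen x) fun c hc => (mem_cen_iff.1 hc).eq
  obtain ⟨k, hk⟩ := id hx
  have hC := cen_eq_singleton x
  set Blk := Finset.univ.filter (fun b : Set (Cfsg.IrrCharacter (cen x)) => Cfsg.IsPBlock M b)
  set bp : Cfsg.IrrCharacter G → Set (Cfsg.IrrCharacter (cen x)) → cen x → ℂ := fun χ b s =>
    Cfsg.blockPart b (fun c : cen x => (χ : G → ℂ) (x * (c : G))) s with hbp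
  have hsplit : ∀ (L : G → MonoidAlgebra ℂ G → ℂ) (χ : Cfsg.IrrCharacter G) (s : cen x),
      ¬ p ∣ orderOf s → starChar p M (χ : G → ℂ) L (x * (s : G)) =
        ∑ b ∈ Blk, L x (H82.blockUp (cen x) b) * bp χ b s := by
    intro L χ s hs
    rw [starChar_section hM χ hx ha hs, ← Finset.sum_fiberwise_of_maps_to
      (s := (Finset.univ : Finset (Cfsg.IrrCharacter (cen x)))) (t := Blk)
      (g := fun ψ => Cfsg.blockOf M (ψ : cen x → ℂ))
      (fun ψ _ => Finset.mem_filter.2 ⟨Finset.mem_univ _, BlockBasic.isPBlock_blockOf M ψ⟩)]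
    refine Finset.sum_congr rfl fun b hb => ?_
    simp only [hbp]
    rw [blockPart_shift_eq (cen x) (self_mem_cen x) χ ha, Finset.mul_sum]
    refine Finset.sum_congr ?_ fun ψ hψ => ?_
    · ext ψ
      simp only [Finset.mem_filter, Finset.mem_univ, true_and]
      exact ⟨fun h => h ▸ BlockBasic.self_mem_blockOf hM ψ,
        fun h => (BlockBasic.isPBlock_eq_blockOf hM (Finset.mem_filter.1 hb).2 h).symm⟩
    · rw [← BlockBasic.isPBlock_eq_blockOf hM (Finset.mem_filter.1 hb).2 (Finset.mem_filter.1 hψ).2]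
      ring
  have hplain : ∀ (χ : Cfsg.IrrCharacter G) (s : cen x), ¬ p ∣ orderOf s →
      (χ : G → ℂ) (x * (s : G)) = ∑ b ∈ Blk, bp χ b s := by
    intro χ s hs
    rw [← starChar_one hM (χ : G → ℂ) (x * (s : G)), hsplit _ χ s hs]
    exact Finset.sum_congr rfl fun b _ => one_mul _
  rw [sum_commute_regular (p := p) hC]
  have hin : ∀ s : cen x, ¬ p ∣ orderOf s →
      (∑ χ : Cfsg.IrrCharacter G, if χ ∈ B then
          starChar p M (χ : G → ℂ) Lam (x * (s : G)) * conj ((χ : G → ℂ) (x * (s : G))) else 0) =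
        ∑ b ∈ Blk, if Cfsg.IsInducedBlock M (cen x) b B then
          Lam x (H82.blockUp (cen x) b) * ∑ ψ : Cfsg.IrrCharacter (cen x),
            if ψ ∈ b then conj ((ψ : cen x → ℂ) s) * (ψ : cen x → ℂ) s else 0 else 0 := by
    intro s hs
    calc _ = ∑ b ∈ Blk, ∑ b' ∈ Blk, Lam x (H82.blockUp (cen x) b) *
          ∑ χ : Cfsg.IrrCharacter G, if χ ∈ B then conj (bp χ b' s) * bp χ b s else 0 := by
          simp only [Finset.mul_sum]
          rw [Finset.sum_congr rfl fun b _ => Finset.sum_comm, Finset.sum_comm]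
          refine Finset.sum_congr rfl fun χ _ => ?_
          split_ifs with hχ
          · rw [hsplit Lam χ s hs, hplain χ s hs, map_sum, Finset.sum_mul_sum]
            exact Finset.sum_congr rfl fun b _ => Finset.sum_congr rfl fun b' _ => by ring
          · simp
      _ = _ := by
          refine Finset.sum_congr rfl fun b hb => ?_
          have hb' := (Finset.mem_filter.1 hb).2
          rw [Finset.sum_congr rfl fun b' hb'' => by
            rw [sum_parts hM hB hk (cen x) hC hb' (Finset.mem_filter.1 hb'').2 hs]]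
          split_ifs with hind
          · rw [← Finset.mul_sum, Finset.sum_eq_single b]
            · simp
            · intro b' hb'' hne
              refine Finset.sum_eq_zero fun ψ _ => if_neg fun h => hne ?_
              exact BlockBasic.isPBlock_eq_of_mem hM (Finset.mem_filter.1 hb'').2 hb' h.2 h.1
            · exact fun h => absurd hb h
          · simp
  rw [Finset.sum_congr rfl fun s hs => hin s (Finset.mem_filter.1 hs).2, Finset.sum_comm,
    ← Finset.sum_filter_add_sum_filter_not Blk (fun b => Cfsg.IsInducedBlock M (cen x) b B)]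
  rw [Finset.sum_eq_zero (s := Blk.filter fun b => ¬ Cfsg.IsInducedBlock M (cen x) b B)
    fun b hb => Finset.sum_eq_zero fun s _ => if_neg (Finset.mem_filter.1 hb).2, add_zero,
    sectionWeight, Finset.mul_sum]
  refine Finset.sum_congr ?_ fun b hb => ?_
  · ext b
    simp only [Finset.mem_filter, Blk, Finset.mem_univ, true_and, Set.Finite.mem_toFinset,
      Set.mem_setOf_eq, induced_iff_pair hM hB hx]
    exact ⟨fun h => h.2, fun h => ⟨h.1.2, h⟩⟩
  have hb' : Cfsg.IsInducedBlock M (cen x) b B :=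
    (induced_iff_pair hM hB hx b).2 (by simpa using hb)
  rw [Finset.sum_congr rfl fun s _ => if_pos hb', ← Finset.mul_sum,
    mul_left_comm _ (Lam x _), S4667.result p M hM b hb'.1]
  congr 1
  rw [Finset.sum_filter]
  refine Finset.sum_congr rfl fun s _ => ?_
  rw [BlockBasic.finsum_mem_eq_sum_ite]
  by_cases hs : p ∣ orderOf s
  · rw [if_neg (not_not.2 hs)]
    exact (Finset.sum_eq_zero fun ψ _ => by simp [pRegularPart_eq_zero _ hs]).symm
  · rw [if_pos hs]
    refine Finset.sum_congr rfl fun ψ _ => ?_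
    rw [pRegularPart_eq_self _ hs, BlockBasic.conj_apply_eq_inv, mul_comm]

open scoped Classical in
/-- The trace of a star product on a block. -/
theorem card_mul_trace (hM : Cfsg.IsPModular p M) (hB : Cfsg.IsPBlock M B)
    (Lam : G → MonoidAlgebra ℂ G → ℂ) :
    (Nat.card G : ℂ) * (∑ χ : Cfsg.IrrCharacter G, if χ ∈ B then
        Cfsg.classInner (starChar p M (χ : G → ℂ) Lam) (χ : G → ℂ) else 0) =
      ∑ x ∈ Finset.univ.filter (fun x : G => ∃ k, orderOf x = p ^ k),
        (Nat.card (cen x) : ℂ) * sectionWeight p M B Lam x := by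
  rw [Finset.mul_sum]
  calc _ = ∑ g : G, ∑ χ : Cfsg.IrrCharacter G, if χ ∈ B then
          starChar p M (χ : G → ℂ) Lam g * conj ((χ : G → ℂ) g) else 0 := by
        rw [Finset.sum_comm]
        refine Finset.sum_congr rfl fun χ _ => ?_
        split_ifs with h
        · rw [CharBasic.classInner_def, ← mul_assoc,
            mul_inv_cancel₀ (Nat.cast_ne_zero.2 Nat.card_pos.ne'), one_mul]
        · simp
    _ = _ := by
        rw [← sum_pElt_sections (p := p)]
        exact Finset.sum_congr rfl fun x hx =>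
          sum_section_trace hM hB Lam (Finset.mem_filter.1 hx).2

end Cfsg.Agent.H80.Watanabe
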