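import Cfsg.Agent.H80.Watanabe.Fixed
import Cfsg.Agent.H24.AbelianPair

/-!
The counting identities inside the centralizer of a subgroup of the defect group.
-/

set_option linter.style.haveILetI false

namespace Cfsg.Agent.H80.Watanabe

open H83 H83.Star MonoidAlgebra

universe u

variable {p : ℕ} [hp : Fact p.Prime] {M : Ideal Cfsg.AlgInt} {G : Type u} [Group G] [Fintype G]
  {B : Set (Cfsg.IrrCharacter G)} {P : Subgroup G}
  {c : Set (Cfsg.IrrCharacter (Subgroup.centralizer (P : Set G)))}

open scoped Classical in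
/-- The number of characters of the pair below `(P, c)` on `Q`. -/
noncomputable def pairCard (p : ℕ) (M : Ideal Cfsg.AlgInt) (P : Subgroup G)
    (c : Set (Cfsg.IrrCharacter (Subgroup.centralizer (P : Set G)))) (Q : Subgroup G) : ℕ :=
  if h : ∃ f, Cfsg.SubpairLE p M Q f P c then Nat.card h.choose else 0

theorem pairCard_eq (hM : Cfsg.IsPModular p M) (hPc : Cfsg.IsBrauerPair p M P c) {Q : Subgroup G}
    {f : Set (Cfsg.IrrCharacter (Subgroup.centralizer (Q : Set G)))}
    (hf : Cfsg.SubpairLE p M Q f P c) : pairCard p M P c Q = Nat.card f := by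
  have hex : ∃ f, Cfsg.SubpairLE p M Q f P c := ⟨f, hf⟩
  rw [pairCard, dif_pos hex, H82.subpair_unique hM hPc hex.choose_spec hf]

theorem le_centralizer_of_comm (hab : ∀ x ∈ P, ∀ y ∈ P, x * y = y * x) {Q R : Subgroup G}
    (hQ : Q ≤ P) (hR : R ≤ P) : R ≤ Subgroup.centralizer (Q : Set G) := fun r hr =>
  Subgroup.mem_centralizer_iff.2 fun q hq => hab q (hQ hq) r (hR hr)

omit hp in
theorem irrComp_inj {H K : Type u} [Group H] [Group K] [Finite H] [Finite K] (φ : H ≃* K) :
    Function.Injective (H83.irrComp φ) :=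
  Function.LeftInverse.injective (H83.irrComp_symm φ)

/-- Pairs below `(P, c)` with equal centralizers are the same block. -/
theorem pair_eq_of_centralizer_eq (hM : Cfsg.IsPModular p M) (hPc : Cfsg.IsBrauerPair p M P c)
    (hab : ∀ x ∈ P, ∀ y ∈ P, x * y = y * x) {Q R : Subgroup G} (hQR : Q ≤ R) (hRP : R ≤ P)
    (hC : Subgroup.centralizer (R : Set G) = Subgroup.centralizer (Q : Set G)) :
    pairRank p M P c Q = pairRank p M P c R ∧ pairCard p M P c Q = pairCard p M P c R := by
  obtain ⟨g, hg, hgle⟩ := H82.exists_subpair hM hPc hRP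
  set φ := MulEquiv.subgroupCongr hC with hφ
  set f := H83.irrComp φ.symm '' g with hfdef
  have hfb : Cfsg.IsPBlock M f := H82.isPBlock_image_irrComp _ hg.2
  have hRC : R ≤ Subgroup.centralizer (Q : Set G) :=
    le_centralizer_of_comm hab (hQR.trans hRP) hRP
  have hn : Cfsg.IsNormalSubpair p M Q f R g := by
    refine ⟨⟨hg.1.to_le hQR, hfb⟩, hg, hQR, hRC.trans (Subgroup.centralizer_le_normalizer _),
      fun x hx => ((H82.stabilizesBlock_iff_conjPair hM hfb).2
        (H82.conjPair_of_centralizes f (hRC hx))).2, fun ξ hξ => ?_⟩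
    cases nonempty_fintype (Subgroup.centralizer (R : Set G))
    have h1 := BlockBasic.omega_blockElem g ξ
    rw [if_pos hξ] at h1
    have h2 : Cfsg.brauerOmega R (Cfsg.subgroupBlockCoeff (Subgroup.centralizer (Q : Set G)) f)
        (ξ : _ → ℂ) = 1 := by
      rw [← h1, H82.brauerOmega_eq_omega]
      congr 1
      refine coeff_injective (Finsupp.ext fun k => ?_)
      rw [BlockBasic.coeff_blockElem, BlockBasic.coeff_ofFun, Cfsg.subgroupBlockCoeff,
        dif_pos (hC ▸ k.2), H82.blockCoeff_image_irrComp]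
      rfl
    rw [h2, sub_self]
    exact BlockBasic.memLocalIdeal_zero hM
  have hle : Cfsg.SubpairLE p M Q f P c :=
    Relation.ReflTransGen.head (show Cfsg.NormalSubpairRel p M ⟨Q, f⟩ ⟨R, g⟩ from hn) hgle
  refine ⟨?_, ?_⟩
  · rw [pairRank_eq hM hPc hle, pairRank_eq hM hPc hgle, hfdef,
      H25.KleinDefect.blockRank_irrComp]
  · rw [pairCard_eq hM hPc hle, pairCard_eq hM hPc hgle, hfdef,
      Nat.card_image_of_injective (irrComp_inj _)]

omit [Fintype G] in
theorem card_subgroupOf (H K : Subgroup G) :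
    Nat.card (H.subgroupOf K) = Nat.card (H ⊓ K : Subgroup G) := by
  rw [← Subgroup.inf_subgroupOf_right H K]
  exact Nat.card_congr (Subgroup.subgroupOfEquivOfLe inf_le_right).toEquiv

/-- The pair `(P, c)` is a maximal pair of the block of a pair below it. -/
theorem exists_local (hM : Cfsg.IsPModular p M) (hmax : Cfsg.IsMaximalBrauerPair p M B P c)
    (hab : ∀ x ∈ P, ∀ y ∈ P, x * y = y * x) {Q : Subgroup G}
    {f : Set (Cfsg.IrrCharacter (Subgroup.centralizer (Q : Set G)))}
    (hle : Cfsg.SubpairLE p M Q f P c) :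
    ∃ a : Cfsg.BrauerPairIdx (Subgroup.centralizer (Q : Set G)),
      H82.PairRel (Subgroup.centralizer (Q : Set G)) a ⟨P, c⟩ ∧
      Cfsg.IsMaximalBrauerPair p M f a.1 a.2 := by
  cases nonempty_fintype (Subgroup.centralizer (Q : Set G))
  have hQP : Q ≤ P := H82.le_of_subpairLE hle
  have hQf := H82.isBrauerPairOf_of_le hM hmax.1 hle
  have hPC : P ≤ Subgroup.centralizer (Q : Set G) := le_centralizer_of_comm hab hQP le_rfl
  have h := H82.isLocalBlock_centralizer hM hQf.1
  have hbd : p ^ Cfsg.blockDefect p f ≤ Nat.card P := by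
    obtain ⟨x, -, hx⟩ := h.exists_conj_card hM hmax hQf
    exact hx.trans (Subgroup.card_le_of_le inf_le_left)
  obtain ⟨a, hr, hp'⟩ := h.exists_pairRel hM (a := ⟨P, c⟩) hPC
    (H82.isNormalSubpair_of_le hM hmax.1.1 (hPC.trans (Subgroup.centralizer_le_normalizer _)) hle)
  refine ⟨a, hr, H82.isMaximal_of_card hM hp' ?_⟩
  rw [← Subgroup.card_map_of_injective (K := a.1)
    (Subgroup.centralizer (Q : Set G)).subtype_injective, ← hr.1]
  exact hbd

/-- The pairs below a maximal pair of a local block are the pairs below in the group. -/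
theorem pairRank_local (hM : Cfsg.IsPModular p M) (hPc : Cfsg.IsBrauerPair p M P c)
    (hab : ∀ x ∈ P, ∀ y ∈ P, x * y = y * x) {Q K : Subgroup G} [Fintype K]
    (hK : K = Subgroup.centralizer (Q : Set G)) (hQP : Q ≤ P) {A : Subgroup K}
    {k : Set (Cfsg.IrrCharacter (Subgroup.centralizer (A : Set K)))}
    (hr : H82.PairRel K ⟨A, k⟩ ⟨P, c⟩) (hA : Cfsg.IsBrauerPair p M A k) (v : A) :
    pairRank p M A k (Subgroup.zpowers (v : K)) =
      pairRank p M P c (Q ⊔ Subgroup.zpowers ((v : K) : G)) := by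
  have hmap : P = A.map K.subtype := hr.1
  have hQK : Q ≤ K := hK ▸ le_centralizer_of_comm hab hQP hQP
  have habA : ∀ x ∈ A, ∀ y ∈ A, x * y = y * x := fun x hx y hy => Subtype.ext
    (hab _ (hmap ▸ ⟨x, hx, rfl⟩) _ (hmap ▸ ⟨y, hy, rfl⟩))
  set R' : Subgroup K := Q.subgroupOf K ⊔ Subgroup.zpowers (v : K) with hR'
  have hQA : Q.subgroupOf K ≤ A := by
    intro q hq
    obtain ⟨x, hx, hxq⟩ : (q : G) ∈ A.map K.subtype := hmap ▸ hQP hq
    exact (Subtype.ext hxq : x = q) ▸ hx
  have hRA : R' ≤ A := sup_le hQA (Subgroup.zpowers_le.2 v.2)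
  have hcz : Subgroup.centralizer (R' : Set K) =
      Subgroup.centralizer (Subgroup.zpowers (v : K) : Set K) := by
    refine le_antisymm (Subgroup.centralizer_le (le_sup_right : Subgroup.zpowers (v : K) ≤ R')) fun x hx => ?_
    rw [Subgroup.mem_centralizer_iff]
    have hle : R' ≤ Subgroup.centralizer ({x} : Set K) := sup_le
      (fun q hq => Subgroup.mem_centralizer_singleton_iff.2 (Subtype.ext
        (Subgroup.mem_centralizer_iff.1 (hK.le x.2) (q : G) hq)))
      (fun q hq => Subgroup.mem_centralizer_singleton_iff.2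
        (Subgroup.mem_centralizer_iff.1 hx q hq))
    exact fun q hq => Subgroup.mem_centralizer_singleton_iff.1 (hle hq)
  rw [(pair_eq_of_centralizer_eq hM hA habA le_sup_right hRA hcz).1]
  obtain ⟨f', hf', hf'le⟩ := H82.exists_subpair hM hA hRA
  rw [pairRank_eq hM hA hf'le]
  have hmapR : R'.map K.subtype = Q ⊔ Subgroup.zpowers ((v : K) : G) := by
    rw [hR', Subgroup.map_sup, Subgroup.map_subgroupOf_eq_of_le hQK, MonoidHom.map_zpowers]
    rfl
  have hQR : Q ≤ R'.map K.subtype := hmapR ▸ le_sup_left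
  have hC := H82.centralizer_map_subtype hK.ge hQR
  have hb := H82.pairRel_localCent (S := R'.map K.subtype) (A := R') rfl hC
    (H83.irrComp (H82.localCent hC).symm '' f')
  rw [Set.image_image, funext (H83.irrComp_symm' (H82.localCent hC)), Set.image_id'] at hb
  have hle : Cfsg.SubpairLE p M (R'.map K.subtype)
      (H83.irrComp (H82.localCent hC).symm '' f') P c :=
    H82.PairRel.subpairLE hM hK.ge hQR hA hb hr hf'le
  rw [← hmapR, pairRank_eq hM hPc hle, H25.KleinDefect.blockRank_irrComp]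

open scoped Classical in
/-- The counting identities inside the centralizer of `Q`. -/
theorem count_identity_local (hM : Cfsg.IsPModular p M)
    (hmax : Cfsg.IsMaximalBrauerPair p M B P c) (hab : ∀ x ∈ P, ∀ y ∈ P, x * y = y * x)
    {Q : Subgroup G} (hQP : Q ≤ P) (lam : P →* ℂˣ)
    (hst : ∀ (t : G) (ht : t ∈ stab P c), t ∈ Subgroup.centralizer (Q : Set G) → ∀ v : P,
      lam ⟨t * (v : G) * t⁻¹, conj_mem_of_stab ht v.2⟩ = lam v) :
    ∑ v : P, (Nat.card (stab P c ⊓ Subgroup.centralizer (Q : Set G) ⊓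
          Subgroup.centralizer ({(v : G)} : Set G) : Subgroup G) : ℂ) *
        (lam v : ℂ) * (pairRank p M P c (Q ⊔ Subgroup.zpowers (v : G)) : ℂ) =
      if lam = 1 then (Nat.card (stab P c ⊓ Subgroup.centralizer (Q : Set G) : Subgroup G) : ℂ) *
        (pairCard p M P c Q : ℂ) else 0 := by
  have hPc := hmax.1.1
  obtain ⟨f, -, hf⟩ := H82.exists_subpair hM hPc hQP
  obtain ⟨⟨A, k⟩, hr, hAmax⟩ := exists_local hM hmax hab hf
  cases nonempty_fintype (Subgroup.centralizer (Q : Set G))
  have hmap : P = A.map (Subgroup.centralizer (Q : Set G)).subtype := hr.1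
  let e : A →* P :=
    { toFun := fun v => ⟨((v : Subgroup.centralizer (Q : Set G)) : G), hmap.ge ⟨v, v.2, rfl⟩⟩
      map_one' := rfl
      map_mul' := fun _ _ => rfl }
  have heinj : Function.Injective e := fun v w h =>
    Subtype.ext (Subtype.ext (congrArg (fun x : P => (x : G)) h))
  have hesurj : Function.Surjective e := fun v => by
    obtain ⟨x, hx, hxv⟩ := hmap.le v.2
    exact ⟨⟨x, hx⟩, Subtype.ext hxv⟩
  have hstab : stab A k = (stab P c).subgroupOf (Subgroup.centralizer (Q : Set G)) :=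
    Subgroup.ext fun x => H24.AbelianPair.conjPair_iff hr x
  have habA : ∀ x ∈ A, ∀ y ∈ A, x * y = y * x := fun x hx y hy => Subtype.ext
    (hab _ (hmap.ge ⟨x, hx, rfl⟩) _ (hmap.ge ⟨y, hy, rfl⟩))
  have h := count_identity hM hAmax habA (lam.comp e) fun t ht v => by
    refine (hst (t : G) (Subgroup.mem_subgroupOf.1 (hstab.le ht)) t.2 (e v))
  have hl : lam.comp e = 1 ↔ lam = 1 := by
    constructor
    · intro h1
      refine MonoidHom.ext fun v => ?_
      obtain ⟨w, rfl⟩ := hesurj v
      exact DFunLike.congr_fun h1 w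
    · rintro rfl
      rfl
  rw [if_congr hl rfl rfl, hstab, card_subgroupOf, ← pairCard_eq hM hPc hf] at h
  rw [← h]
  refine (Fintype.sum_bijective e ⟨heinj, hesurj⟩ _ _ fun v => ?_).symm
  rw [pairRank_local hM hPc hab rfl hQP hr hAmax.1.1 v]
  congr 3
  have : (stab P c).subgroupOf (Subgroup.centralizer (Q : Set G)) ⊓
      Subgroup.centralizer ({(v : Subgroup.centralizer (Q : Set G))} : Set _) =
      (stab P c ⊓ Subgroup.centralizer ({((v : Subgroup.centralizer (Q : Set G)) : G)} : Set G)).subgroupOf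
        (Subgroup.centralizer (Q : Set G)) := by
    ext x
    simp only [Subgroup.mem_inf, Subgroup.mem_subgroupOf,
      Subgroup.mem_centralizer_singleton_iff, Subtype.ext_iff, Subgroup.coe_mul]
  rw [this, card_subgroupOf, inf_right_comm]
  rfl

end Cfsg.Agent.H80.Watanabe
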