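import Cfsg.Agent.H80.Watanabe.Orbits
import Cfsg.Agent.H83.StarWeight
import Cfsg.Agent.H83.MajorContrib
import Cfsg.Agent.S4677

/-!
The star action of a stable linear character is fixed point free when it is nontrivial on an
element of the commutative defect group; the resulting counting identities.
-/

set_option linter.style.haveILetI false

open scoped ComplexConjugate
open Polynomial

namespace Cfsg.Agent.H80.Watanabe

open H83 H83.Star

universe u

variable {p : ℕ} [hp : Fact p.Prime] {M : Ideal Cfsg.AlgInt} {G : Type u} [Group G] [Fintype G]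
  {B : Set (Cfsg.IrrCharacter G)} {P : Subgroup G}
  {c : Set (Cfsg.IrrCharacter (Subgroup.centralizer (P : Set G)))}

open scoped Classical in
/-- Every character of a block has a nonzero part at a major subsection. -/
theorem exists_part_ne_zero (hM : Cfsg.IsPModular p M) {y : G} {n : ℕ} (hy : orderOf y = p ^ n)
    (C : Subgroup G) [Fintype C] (hC : C = Subgroup.centralizer ({y} : Set G))
    {b : Set (Cfsg.IrrCharacter C)} (hind : Cfsg.IsInducedBlock M C b B)
    (hbd : Cfsg.blockDefect p b = Cfsg.blockDefect p B) (hyC : y ∈ C)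
    {a : Cfsg.IrrCharacter C → ℂ}
    (ha : ∀ (ψ : Cfsg.IrrCharacter C) (s : C), (ψ : C → ℂ) (⟨y, hyC⟩ * s) = a ψ * (ψ : C → ℂ) s)
    {χ : Cfsg.IrrCharacter G} (hχ : χ ∈ B) :
    ∃ s : C, ¬ p ∣ orderOf s ∧ ∑ ψ ∈ Finset.univ.filter (fun ψ : Cfsg.IrrCharacter C => ψ ∈ b),
      (H83.mult χ ψ : ℂ) * a ψ * (ψ : C → ℂ) s ≠ 0 := by
  subst hC
  obtain ⟨ζ, e, hζ, hact, -, -, -, hH⟩ := H83.exists_major_contrib_action hM hy hind hbd
  have hae : ∀ ψ : Cfsg.IrrCharacter ↥(Subgroup.centralizer ({y} : Set G)), a ψ = ζ ^ e ψ :=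
    fun ψ => mul_right_cancel₀ (CharBasic.IsIrr.one_ne_zero ψ.2) ((ha ψ 1).symm.trans (hact ψ hyC 1))
  by_contra hne
  push Not at hne
  obtain ⟨θ, hθ, hθ0⟩ := H83.exists_height_zero hM hind.2.1
  have hcol : ∀ κ ∈ b, aeval ζ (colPoly p b e χ κ) = 0 := by
    intro κ hκ
    simp only [colPoly, map_sum, map_mul, aeval_C, map_pow, aeval_X, eq_intCast, map_intCast, map_natCast, Int.cast_mul,
      Int.cast_natCast]
    have key : ∀ ψ ∈ Finset.univ.filter (fun ψ : Cfsg.IrrCharacter _ => ψ ∈ b),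
        (H83.mult χ ψ : ℂ) * (entry p b ψ κ : ℂ) * ζ ^ e ψ =
          ∑ s : ↥(Subgroup.centralizer ({y} : Set G)),
            (p : ℂ) ^ Cfsg.blockDefect p b * (Nat.card ↥(Subgroup.centralizer ({y} : Set G)) : ℂ)⁻¹ *
              ((H83.mult χ ψ : ℂ) * a ψ * (Cfsg.pRegularPart p (ψ : _ → ℂ) s * conj ((κ : _ → ℂ) s))) := by
      intro ψ hψ
      rw [entry_spec hM hind.1 (Finset.mem_filter.1 hψ).2, regInner, CharBasic.classInner_def, hae,
        ← Finset.mul_sum, ← Finset.mul_sum]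
      ring
    rw [Finset.sum_congr rfl key, Finset.sum_comm]
    refine Finset.sum_eq_zero fun s _ => ?_
    rw [← Finset.mul_sum]
    by_cases hs : p ∣ orderOf s
    · simp [pRegularPart_eq_zero _ hs]
    · simp only [pRegularPart_eq_self _ hs, ← mul_assoc, ← Finset.sum_mul, hne s hs, zero_mul,
        mul_zero]
  obtain ⟨H, hHeq, hHu⟩ := hH χ hχ θ hθ
  have h0 : aeval ζ (contribPoly p (p ^ n) b e χ θ) = 0 := by
    have : aeval ζ (contribPoly p (p ^ n) b e χ θ) =
        ∑ ψ' ∈ Finset.univ.filter (fun ψ : Cfsg.IrrCharacter _ => ψ ∈ b),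
          (H83.mult θ ψ' : ℂ) * ζ ^ ((p ^ n - 1) * e ψ') * aeval ζ (colPoly p b e χ ψ') := by
      simp only [contribPoly, contribCoeff, colPoly, map_sum, map_mul, aeval_C, map_pow, aeval_X, map_intCast, map_natCast,
        eq_intCast, Int.cast_mul, Int.cast_natCast, pow_add, Finset.mul_sum]
      rw [Finset.sum_comm]
      exact Finset.sum_congr rfl fun _ _ => Finset.sum_congr rfl fun _ _ => by ring
    rw [this]
    exact Finset.sum_eq_zero fun ψ hψ => by rw [hcol ψ (Finset.mem_filter.1 hψ).2, mul_zero]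
  rw [hHeq ζ hζ] at h0
  have h1 : aeval ζ H = 0 := (mul_eq_zero.1 h0).resolve_left
    (pow_ne_zero _ (Nat.cast_ne_zero.2 hp.out.ne_zero))
  have h2 := hHu.1 (by rw [h1]; exact BlockBasic.memLocalIdeal_zero hM)
  omega

/-- A stable linear character is trivial on the focal subgroup. -/
theorem mem_focalDual (hM : Cfsg.IsPModular p M)
    (hab : ∀ x ∈ P, ∀ y ∈ P, x * y = y * x) {F : Cfsg.FusionSystem P}
    (hF : Cfsg.IsBlockFusionSystemOn p M B P c F) {lam : P →* ℂˣ}
    (hst : ∀ (t : G) (ht : t ∈ stab P c) (v : P),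
      lam ⟨t * (v : G) * t⁻¹, conj_mem_of_stab ht v.2⟩ = lam v) :
    lam ∈ focalDual F := by
  intro z hz
  suffices key : F.focalSubgroup ≤ lam.ker.map P.subtype by
    obtain ⟨w, hw, hwz⟩ := key hz
    rw [← Subtype.ext hwz]
    exact hw
  rw [Cfsg.FusionSystem.focalSubgroup, Subgroup.closure_le]
  rintro g ⟨Q, φ, q, hφ, rfl⟩
  obtain ⟨hQP, n, hn, hnP, f, hf, hf'⟩ := (hF.2 Q φ).1 hφ
  have hq : (q : G) ∈ P := hQP q.2
  have hnq : n * (q : G) * n⁻¹ ∈ P := hnP ⟨q, q.2, rfl⟩
  have hPc := hF.1.1.1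
  obtain ⟨f₁, -, h₁⟩ := H82.exists_subpair hM hPc (Subgroup.zpowers_le.2 hq)
  obtain ⟨f₂, hf₂⟩ := exists_conjPair_zpowers n (q : G) f₁
  have h₂ : Cfsg.SubpairLE p M (Subgroup.zpowers (n * (q : G) * n⁻¹)) f₂ P c := by
    have h := H82.subpairLE_conjPair hM n (H82.subpairLE_of_le hM hPc (Subgroup.zpowers_le.2 q.2) h₁ hf)
    rw [hf₂] at h
    exact h.trans hf'
  obtain ⟨t, ht, htq⟩ := H83.exists_stab_conj hM hF.1 hq hnq (fun d hd => hab d hd _ hq)
    (fun d hd => hab d hd _ hnq) h₁ h₂ rfl (fun k => by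
      show (H82.blockUp (cen (n * (q : G) * n⁻¹)) f₂).coeff k = _
      rw [blockUp_of_conjPair (p := p) hf₂, coeff_cj])
  refine ⟨(⟨q, hq⟩ : P)⁻¹ * ⟨n * (q : G) * n⁻¹, hnq⟩, ?_, ?_⟩
  · show lam _ = 1
    have h := hst t ht ⟨q, hq⟩
    rw [map_mul, map_inv, inv_mul_eq_one, ← h]
    exact congrArg lam (Subtype.ext htq)
  · show (q : G)⁻¹ * (n * (q : G) * n⁻¹) = (q : G)⁻¹ * φ q
    rw [hn]

open scoped Classical in
/-- The counting identities. -/
theorem count_identity (hM : Cfsg.IsPModular p M)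
    (hmax : Cfsg.IsMaximalBrauerPair p M B P c) (hab : ∀ x ∈ P, ∀ y ∈ P, x * y = y * x)
    (lam : P →* ℂˣ) (hst : ∀ (t : G) (ht : t ∈ stab P c) (v : P),
      lam ⟨t * (v : G) * t⁻¹, conj_mem_of_stab ht v.2⟩ = lam v) :
    ∑ v : P, (Nat.card (stab P c ⊓ Subgroup.centralizer ({(v : G)} : Set G) : Subgroup G) : ℂ) *
        (lam v : ℂ) * (pairRank p M P c (Subgroup.zpowers (v : G)) : ℂ) =
      if lam = 1 then (Nat.card (stab P c) : ℂ) * (Nat.card B : ℂ) else 0 := by
  obtain ⟨F, hF, -⟩ := S4677.result p M hM B P c hmax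
  have hfd := mem_focalDual hM hab hF hst
  have hL : IsUnitWeight p M (starLam p M P c lam) :=
    { toIsWeight := isWeight_starLam hM hF hfd
      norm_eq := norm_starLam lam
      integral := isIntegral_starLam lam
      at_one := starLam_at_one lam }
  have hB := hmax.1.2.1
  have h := card_mul_trace hM hB (starLam p M P c lam)
  have h2 := card_mul_sum_sectionWeight hM hmax hab (starLam p M P c lam) hL.cjInv
    (fun v => (lam v : ℂ)) fun v f hf => starLam_eq hF hfd (seenAt_self hf)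
  rw [← h, mul_left_comm] at h2
  have h3 := mul_left_cancel₀ (Nat.cast_ne_zero.2 (Nat.card_pos (α := G)).ne') h2
  rw [← h3]
  split_ifs with hl
  · congr 1
    rw [Finset.sum_congr rfl (g := fun χ : Cfsg.IrrCharacter G => if χ ∈ B then (1 : ℂ) else 0)
      fun χ _ => ?_]
    · rw [Finset.sum_boole, Nat.card_eq_fintype_card, Fintype.card_subtype]
    · split_ifs
      · rw [show starLam p M P c lam = fun _ _ => (1 : ℂ) from
          funext fun q => funext fun E => by rw [hl, starLam_one],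
          show starChar p M (χ : G → ℂ) (fun _ _ => (1 : ℂ)) = (χ : G → ℂ) from
            funext (starChar_one hM _), CharBasic.classInner_irr_self χ.2]
      · rfl
  · obtain ⟨u, hu⟩ : ∃ u : P, lam u ≠ 1 := by
      by_contra hc
      push Not at hc
      exact hl (MonoidHom.ext hc)
    rw [Finset.sum_eq_zero fun χ _ => ?_, mul_zero]
    split_ifs with hχ
    · have hPc := hmax.1.1
      obtain ⟨f, -, hf⟩ := H82.exists_subpair hM hPc (Subgroup.zpowers_le.2 u.2)
      have huC : P ≤ Subgroup.centralizer (Subgroup.zpowers (u : G) : Set G) := fun d hd =>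
        Subgroup.mem_centralizer_iff.2 fun q hq => hab q (Subgroup.zpowers_le.2 u.2 hq) d hd
      obtain ⟨hind, hdef⟩ := H83.major_of_le hM hmax (hPc.1.to_le (Subgroup.zpowers_le.2 u.2))
        (fun q hq => huC (Subgroup.zpowers_le.2 u.2 hq)) huC hf
      cases nonempty_fintype (cen (u : G))
      obtain ⟨k, hk⟩ := IsPGroup.iff_orderOf.1 hPc.1 u
      rw [← Subgroup.orderOf_coe] at hk
      obtain ⟨a, ha⟩ := subgroup_scalars (self_mem_cen (u : G)) fun d hd => (mem_cen_iff.1 hd).eq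
      obtain ⟨s, hs, hne⟩ := exists_part_ne_zero hM hk (cen (u : G)) (cen_eq_singleton _) hind hdef
        (self_mem_cen _) ha hχ
      rw [← coe_starIrr hM hL χ]
      refine CharBasic.classInner_irr_of_ne (starIrr hM hL χ).2 χ.2 fun heq => hu ?_
      have hfix : starChar p M (χ : G → ℂ) (starLam p M P c lam) = (χ : G → ℂ) := by
        rw [← coe_starIrr hM hL χ]; exact heq
      have hE : H82.blockUp (cen (u : G)) f ∈ idemsOf M (cen (u : G)) :=
        mem_idemsOf.2 ⟨f, hind.1, rfl⟩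
      have hw := weight_eq_one_of_fixed hM hfix ⟨k, hk⟩ hE (s := (s : G)) (mem_cen_iff.1 s.2)
        (by rwa [Subgroup.orderOf_coe]) (by
          rw [chiLin_shift]
          simp only [H82.coeff_blockUp]
          rw [sum_subgroupBlockCoeff_shift (self_mem_cen _) f χ a ha s]
          exact hne)
      rw [starLam_eq hF hfd (seenAt_self hf)] at hw
      exact Units.ext hw
    · rfl

end Cfsg.Agent.H80.Watanabe
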