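import Cfsg.Agent.H80.Watanabe.Trace
import Cfsg.Agent.H83.HeightPairs
import Cfsg.Agent.H82.PairConjugacy
import Cfsg.Agent.H25.KleinDefect

/-!
Subsections of a block with commutative defect group as the orbits of the stabilizer of a
maximal pair.
-/

set_option linter.style.haveILetI false

namespace Cfsg.Agent.H80.Watanabe

open H83 H83.Star MonoidAlgebra

universe u

variable {p : ℕ} [hp : Fact p.Prime] {M : Ideal Cfsg.AlgInt} {G : Type u} [Group G] [Fintype G]
  {B : Set (Cfsg.IrrCharacter G)} {P : Subgroup G}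
  {c : Set (Cfsg.IrrCharacter (Subgroup.centralizer (P : Set G)))}

/-- The stabilizer of a pair. -/
def stab (P : Subgroup G) (c : Set (Cfsg.IrrCharacter (Subgroup.centralizer (P : Set G)))) :
    Subgroup G where
  carrier := {g | H82.conjPair g ⟨P, c⟩ = ⟨P, c⟩}
  one_mem' := H82.conjPair_one _
  mul_mem' := fun {a b} ha hb => by
    show H82.conjPair (a * b) _ = _
    rw [H82.conjPair_mul, hb, ha]
  inv_mem' := fun {a} ha => by
    show H82.conjPair a⁻¹ _ = _
    conv_lhs => rw [← ha]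
    exact H82.conjPair_inv a _

omit hp in
theorem mem_stab {g : G} : g ∈ stab P c ↔ H82.conjPair g ⟨P, c⟩ = ⟨P, c⟩ := Iff.rfl

omit hp in
theorem conj_mem_of_stab {g v : G} (hg : g ∈ stab P c) (hv : v ∈ P) : g * v * g⁻¹ ∈ P := by
  have h : (H82.conjPair g ⟨P, c⟩).1 = P := congrArg Sigma.fst hg
  rw [← h]
  exact ⟨v, hv, rfl⟩

open scoped Classical in
/-- The rank of the pair below `(P, c)` on `Q`. -/
noncomputable def pairRank (p : ℕ) (M : Ideal Cfsg.AlgInt) (P : Subgroup G)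
    (c : Set (Cfsg.IrrCharacter (Subgroup.centralizer (P : Set G)))) (Q : Subgroup G) : ℕ :=
  if h : ∃ f, Cfsg.SubpairLE p M Q f P c then Cfsg.blockRank p h.choose else 0

theorem pairRank_eq (hM : Cfsg.IsPModular p M) (hPc : Cfsg.IsBrauerPair p M P c) {Q : Subgroup G}
    {f : Set (Cfsg.IrrCharacter (Subgroup.centralizer (Q : Set G)))}
    (hf : Cfsg.SubpairLE p M Q f P c) : pairRank p M P c Q = Cfsg.blockRank p f := by
  have hex : ∃ f, Cfsg.SubpairLE p M Q f P c := ⟨f, hf⟩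
  rw [pairRank, dif_pos hex, H82.subpair_unique hM hPc hex.choose_spec hf]

omit hp in
theorem blockUp_of_conjPair [Fact p.Prime] {g v w : G}
    {f : Set (Cfsg.IrrCharacter (cen v))} {f' : Set (Cfsg.IrrCharacter (cen w))}
    (h : H82.conjPair g ⟨Subgroup.zpowers v, f⟩ = (⟨Subgroup.zpowers w, f'⟩ : Cfsg.BrauerPairIdx G)) :
    H82.blockUp (cen w) f' = cj g (H82.blockUp (cen v) f) := by
  have h1 := congrArg
    (fun a : Cfsg.BrauerPairIdx G => H82.blockUp (Subgroup.centralizer (a.1 : Set G)) a.2) h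
  exact h1.symm.trans (cj_blockUp (p := p) _ g f)

omit hp in
theorem blockRank_of_conjPair {g : G} {Q R : Subgroup G}
    {f : Set (Cfsg.IrrCharacter (Subgroup.centralizer (Q : Set G)))}
    {f' : Set (Cfsg.IrrCharacter (Subgroup.centralizer (R : Set G)))}
    (h : H82.conjPair g ⟨Q, f⟩ = (⟨R, f'⟩ : Cfsg.BrauerPairIdx G)) :
    Cfsg.blockRank p f' = Cfsg.blockRank p f := by
  have h1 := congrArg (fun a : Cfsg.BrauerPairIdx G => Cfsg.blockRank p a.2) h
  refine h1.symm.trans ?_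
  show Cfsg.blockRank p (Cfsg.conjBlock Q g f) = _
  rw [H82.conjBlock_eq, H25.KleinDefect.blockRank_irrComp]

omit hp in
theorem exists_conjPair_zpowers (g v : G) (f : Set (Cfsg.IrrCharacter (cen v))) :
    ∃ f' : Set (Cfsg.IrrCharacter (cen (g * v * g⁻¹))),
      H82.conjPair g ⟨Subgroup.zpowers v, f⟩ =
        (⟨Subgroup.zpowers (g * v * g⁻¹), f'⟩ : Cfsg.BrauerPairIdx G) := by
  have : (H82.conjPair g ⟨Subgroup.zpowers v, f⟩).1 = Subgroup.zpowers (g * v * g⁻¹) :=
    MonoidHom.map_zpowers _ _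
  generalize H82.conjPair g ⟨Subgroup.zpowers v, f⟩ = a at this ⊢
  obtain ⟨A, k⟩ := a
  obtain rfl : A = Subgroup.zpowers (g * v * g⁻¹) := this
  exact ⟨k, rfl⟩

theorem cen_invariant {x g : G} (hg : g ∈ cen x) (b : Set (Cfsg.IrrCharacter (cen x))) :
    cj g (H82.blockUp (cen x) b) = H82.blockUp (cen x) b :=
  invBy_blockUp (cen x) b g hg

open scoped Classical in
/-- The weighted subsections are the orbits of the stabilizer on the defect group. -/
theorem card_mul_sum_sectionWeight (hM : Cfsg.IsPModular p M)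
    (hmax : Cfsg.IsMaximalBrauerPair p M B P c) (hab : ∀ x ∈ P, ∀ y ∈ P, x * y = y * x)
    (Lam : G → MonoidAlgebra ℂ G → ℂ)
    (hL : ∀ g q E, Lam (g * q * g⁻¹) (cj g E) = Lam q E) (lam : P → ℂ)
    (hlam : ∀ (v : P) (f : Set (Cfsg.IrrCharacter (cen (v : G)))),
      Cfsg.SubpairLE p M (Subgroup.zpowers (v : G)) f P c →
        Lam (v : G) (H82.blockUp (cen (v : G)) f) = lam v) :
    (Nat.card (stab P c) : ℂ) * ∑ x ∈ Finset.univ.filter (fun x : G => ∃ k, orderOf x = p ^ k),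
        (Nat.card (cen x) : ℂ) * sectionWeight p M B Lam x =
      (Nat.card G : ℂ) * ∑ v : P,
        (Nat.card (stab P c ⊓ Subgroup.centralizer ({(v : G)} : Set G) : Subgroup G) : ℂ) * lam v *
          (pairRank p M P c (Subgroup.zpowers (v : G)) : ℂ) := by
  have hPc := hmax.1.1
  set T := stab P c
  have hex : ∀ v : P, ∃ f, Cfsg.SubpairLE p M (Subgroup.zpowers (v : G)) f P c := fun v => by
    obtain ⟨f, -, hf⟩ := H82.exists_subpair hM hPc (Subgroup.zpowers_le.2 v.2)
    exact ⟨f, hf⟩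
  choose fv hfv using hex
  set Tv : P → ℕ := fun v =>
    Nat.card (T ⊓ Subgroup.centralizer ({(v : G)} : Set G) : Subgroup G)
  let J : (x : G) → Finset (Set (Cfsg.IrrCharacter (cen x))) := fun x =>
    (Set.toFinite {b : Set (Cfsg.IrrCharacter (cen x)) |
      Cfsg.IsBrauerPairOf p M B (Subgroup.zpowers x) b}).toFinset
  have hmemJ : ∀ {x : G} {b}, b ∈ J x ↔ Cfsg.IsBrauerPairOf p M B (Subgroup.zpowers x) b :=
    fun {x b} => Set.Finite.mem_toFinset _
  set S := (Finset.univ.filter (fun x : G => ∃ k, orderOf x = p ^ k)).sigma J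
  let rel : G → P → (Σ x : G, Set (Cfsg.IrrCharacter (cen x))) → Prop := fun g v a =>
    g * (v : G) * g⁻¹ = a.1 ∧ cj g (H82.blockUp (cen (v : G)) (fv v)) = H82.blockUp (cen a.1) a.2
  let W : (Σ x : G, Set (Cfsg.IrrCharacter (cen x))) → ℂ := fun a =>
    Lam a.1 (H82.blockUp (cen a.1) a.2) * (Cfsg.blockRank p a.2 : ℂ)
  -- stability of the chosen pairs
  have hTmove : ∀ (t : G) (ht : t ∈ T) (v : P),
      H82.conjPair t ⟨Subgroup.zpowers (v : G), fv v⟩ =
        ⟨Subgroup.zpowers (t * (v : G) * t⁻¹), fv ⟨_, conj_mem_of_stab ht v.2⟩⟩ := by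
    intro t ht v
    obtain ⟨f', hf'⟩ := exists_conjPair_zpowers t (v : G) (fv v)
    have h := H82.subpairLE_conjPair hM t (hfv v)
    rw [hf', mem_stab.1 ht] at h
    rw [hf', H82.subpair_unique hM hPc (hfv ⟨_, conj_mem_of_stab ht v.2⟩) h]
  -- one pair for each conjugating element and element of the defect group
  have hone : ∀ (g : G) (v : P), ∑ a ∈ S, (if rel g v a then W a else 0) =
      lam v * (pairRank p M P c (Subgroup.zpowers (v : G)) : ℂ) := by
    intro g v
    obtain ⟨f', hf'⟩ := exists_conjPair_zpowers g (v : G) (fv v)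
    have hup := blockUp_of_conjPair (p := p) hf'
    have hmem : (⟨g * (v : G) * g⁻¹, f'⟩ : Σ x : G, Set (Cfsg.IrrCharacter (cen x))) ∈ S := by
      refine Finset.mem_sigma.2 ⟨Finset.mem_filter.2 ⟨Finset.mem_univ _, ?_⟩, hmemJ.2 ?_⟩
      · obtain ⟨k, hk⟩ := IsPGroup.iff_orderOf.1 hPc.1 v
        exact ⟨k, by rw [H82.orderOf_conj, Subgroup.orderOf_coe, hk]⟩
      · have h1 := H82.isBrauerPairOf_conjPair hM g (a := ⟨Subgroup.zpowers (v : G), fv v⟩)
          (H82.isBrauerPairOf_of_le hM hmax.1 (hfv v))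
        rw [hf'] at h1
        exact h1
    rw [Finset.sum_eq_single_of_mem _ hmem]
    · rw [if_pos ⟨rfl, hup.symm⟩]
      show Lam _ (H82.blockUp (cen (g * (v : G) * g⁻¹)) f') * (Cfsg.blockRank p f' : ℂ) = _
      rw [hup, hL, hlam v _ (hfv v), blockRank_of_conjPair hf', pairRank_eq hM hPc (hfv v)]
    · rintro ⟨x, b⟩ hb hne
      refine if_neg fun h => hne ?_
      obtain ⟨h1, h2⟩ := h
      dsimp only at h1 h2
      subst h1
      have hbp := (hmemJ.1 (Finset.mem_sigma.1 hb).2).1.2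
      have hfp := (hmemJ.1 (Finset.mem_sigma.1 hmem).2).1.2
      have hpe : (⟨Subgroup.zpowers (g * (v : G) * g⁻¹), b⟩ : Cfsg.BrauerPairIdx G) =
          ⟨Subgroup.zpowers (g * (v : G) * g⁻¹), f'⟩ :=
        H82.pair_ext rfl (h2.symm.trans hup.symm)
      rw [eq_of_heq (Sigma.mk.inj_iff.1 hpe).2]
  -- the fibre over one pair
  have hfibre : ∀ a ∈ S, ∑ g : G, ∑ v : P, (if rel g v a then (Tv v : ℂ) else 0) =
      (Nat.card (cen a.1) : ℂ) * (Nat.card T : ℂ) := by
    rintro ⟨x, b⟩ ha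
    have hb := hmemJ.1 (Finset.mem_sigma.1 ha).2
    dsimp only at hb ⊢
    -- a base point
    obtain ⟨y, hy⟩ := H82.exists_conj_le hM hmax hb
    obtain ⟨f₀, hf₀⟩ := exists_conjPair_zpowers y x b
    have hle : Cfsg.SubpairLE p M (Subgroup.zpowers (y * x * y⁻¹)) f₀ P c := by
      have h : Relation.ReflTransGen (Cfsg.NormalSubpairRel p M)
          (H82.conjPair y ⟨Subgroup.zpowers x, b⟩) ⟨P, c⟩ := hy
      rw [hf₀] at h
      exact h
    set v₀ : P := ⟨y * x * y⁻¹, H82.le_of_subpairLE hle (Subgroup.mem_zpowers _)⟩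
    have hf₁ : H82.conjPair y ⟨Subgroup.zpowers x, b⟩ =
        (⟨Subgroup.zpowers (y * x * y⁻¹), fv v₀⟩ : Cfsg.BrauerPairIdx G) := by
      rw [hf₀]
      exact congrArg (fun k => (⟨Subgroup.zpowers (y * x * y⁻¹), k⟩ : Cfsg.BrauerPairIdx G))
        (H82.subpair_unique hM hPc hle (hfv v₀))
    have hbase : rel y⁻¹ v₀ ⟨x, b⟩ := by
      refine ⟨show y⁻¹ * (y * x * y⁻¹) * y⁻¹⁻¹ = x by group, ?_⟩
      show cj y⁻¹ (H82.blockUp (cen (y * x * y⁻¹)) (fv v₀)) = H82.blockUp (cen x) b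
      rw [blockUp_of_conjPair (p := p) hf₁, ← cj_mul_left, inv_mul_cancel, cj_one_apply]
    -- translates
    have hcount : ∀ v : P, (∃ g, rel g v ⟨x, b⟩) →
        Nat.card {g : G // rel g v ⟨x, b⟩} = Nat.card (cen x) := by
      rintro v ⟨g₁, hg₁, hg₁'⟩
      dsimp only at hg₁ hg₁'
      refine Nat.card_congr
        { toFun := fun g => ⟨g.1 * g₁⁻¹, ?_⟩
          invFun := fun s => ⟨(s : G) * g₁, ?_⟩
          left_inv := fun g => Subtype.ext (inv_mul_cancel_right _ _)
          right_inv := fun s => Subtype.ext (mul_inv_cancel_right _ _) }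
      · obtain ⟨h1, -⟩ := g.2
        dsimp only at h1
        rw [mem_cen_iff]
        show x * (g.1 * g₁⁻¹) = g.1 * g₁⁻¹ * x
        calc x * (g.1 * g₁⁻¹) = g.1 * (v : G) * g.1⁻¹ * (g.1 * g₁⁻¹) := by rw [h1]
          _ = g.1 * g₁⁻¹ * (g₁ * (v : G) * g₁⁻¹) := by group
          _ = g.1 * g₁⁻¹ * x := by rw [hg₁]
      · have hs : (s : G) * x * (s : G)⁻¹ = x := by
          rw [← (mem_cen_iff.1 s.2).eq, mul_inv_cancel_right]
        refine ⟨?_, ?_⟩
        · show (s : G) * g₁ * (v : G) * ((s : G) * g₁)⁻¹ = x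
          calc (s : G) * g₁ * (v : G) * ((s : G) * g₁)⁻¹
              = (s : G) * (g₁ * (v : G) * g₁⁻¹) * (s : G)⁻¹ := by group
            _ = (s : G) * x * (s : G)⁻¹ := by rw [hg₁]
            _ = x := hs
        · show cj ((s : G) * g₁) _ = _
          rw [cj_mul_left, hg₁', cen_invariant s.2]
    set O := Finset.univ.filter fun v : P => ∃ g, rel g v ⟨x, b⟩
    have hinner : ∀ v : P, ∑ g : G, (if rel g v ⟨x, b⟩ then (Tv v : ℂ) else 0) =
        if v ∈ O then (Nat.card (cen x) : ℂ) * Tv v else 0 := by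
      intro v
      rw [← Finset.sum_filter, Finset.sum_const, nsmul_eq_mul]
      by_cases h : ∃ g, rel g v ⟨x, b⟩
      · have hv : v ∈ O := Finset.mem_filter.2 ⟨Finset.mem_univ _, h⟩
        rw [if_pos hv, ← hcount v h, Nat.card_eq_fintype_card, Fintype.card_subtype]
      · have hv : v ∉ O := fun hv => h (Finset.mem_filter.1 hv).2
        rw [if_neg hv, Finset.filter_false_of_mem fun g _ hg => h ⟨g, hg⟩]
        simp
    rw [Finset.sum_comm, Finset.sum_congr rfl fun v _ => hinner v, Finset.sum_ite_mem,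
      Finset.univ_inter, ← Finset.mul_sum]
    congr 1
    -- the orbit
    let mv : T → P := fun t => ⟨(t : G) * v₀ * (t : G)⁻¹, conj_mem_of_stab t.2 v₀.2⟩
    have hmaps : ∀ t : T, mv t ∈ O := by
      intro t
      refine Finset.mem_filter.2 ⟨Finset.mem_univ _, y⁻¹ * (t : G)⁻¹, ?_, ?_⟩
      · show y⁻¹ * (t : G)⁻¹ * ((t : G) * v₀ * (t : G)⁻¹) * (y⁻¹ * (t : G)⁻¹)⁻¹ = x
        rw [← show y⁻¹ * (v₀ : G) * y⁻¹⁻¹ = x from hbase.1]
        group
      · rw [blockUp_of_conjPair (p := p) (hTmove t t.2 v₀), ← cj_mul_left, inv_mul_cancel_right]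
        exact hbase.2
    rw [← Nat.cast_sum, Nat.card_eq_fintype_card (α := T)]
    congr 1
    symm
    rw [← Finset.card_univ, Finset.card_eq_sum_card_fiberwise (f := mv) (t := O) fun t _ => hmaps t]
    refine Finset.sum_congr rfl fun v hv => ?_
    obtain ⟨g, hg, hg'⟩ := (Finset.mem_filter.1 hv).2
    dsimp only at hg hg'
    -- the stabilizer moves the base point to `v`
    obtain ⟨t₁, ht₁, ht₁v⟩ : ∃ t, t ∈ T ∧ t * (v₀ : G) * t⁻¹ = v := by
      obtain ⟨hb1, hb2⟩ := hbase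
      dsimp only at hb1 hb2
      refine H83.exists_stab_conj hM hmax v₀.2 v.2 (fun d hd => hab d hd _ v₀.2)
        (fun d hd => hab d hd _ v.2) (hfv v₀) (hfv v) (g := g⁻¹ * y⁻¹) ?_ ?_
      · calc g⁻¹ * y⁻¹ * (v₀ : G) * (g⁻¹ * y⁻¹)⁻¹ = g⁻¹ * (y⁻¹ * v₀ * y⁻¹⁻¹) * g := by group
          _ = g⁻¹ * (g * v * g⁻¹) * g := by rw [hb1, hg]
          _ = v := by group
      · intro k
        have e : H82.blockUp (cen (v : G)) (fv v) =
            cj (g⁻¹ * y⁻¹) (H82.blockUp (cen (v₀ : G)) (fv v₀)) := by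
          rw [cj_mul_left, hb2, ← hg', ← cj_mul_left, inv_mul_cancel, cj_one_apply]
        show (H82.blockUp (cen (v : G)) (fv v)).coeff k = _
        rw [e, coeff_cj]
    rw [← Fintype.card_subtype, ← Nat.card_eq_fintype_card]
    refine Nat.card_congr
      { toFun := fun t => ⟨(t.1 : G) * t₁⁻¹, ⟨T.mul_mem t.1.2 (T.inv_mem ht₁), ?_⟩⟩
        invFun := fun s => ⟨⟨(s : G) * t₁, T.mul_mem s.2.1 ht₁⟩, ?_⟩
        left_inv := fun t => Subtype.ext (Subtype.ext (inv_mul_cancel_right _ _))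
        right_inv := fun s => Subtype.ext (mul_inv_cancel_right _ _) }
    · have h1 : (t.1 : G) * v₀ * (t.1 : G)⁻¹ = v := congrArg Subtype.val t.2
      show (t.1 : G) * t₁⁻¹ ∈ Subgroup.centralizer ({(v : G)} : Set G)
      rw [Subgroup.mem_centralizer_singleton_iff]
      conv_lhs => rw [← ht₁v]
      conv_rhs => rw [← h1]
      group
    · refine Subtype.ext ?_
      show (s : G) * t₁ * v₀ * ((s : G) * t₁)⁻¹ = v
      rw [show (s : G) * t₁ * v₀ * ((s : G) * t₁)⁻¹ = (s : G) * (t₁ * v₀ * t₁⁻¹) * (s : G)⁻¹ by group,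
        ht₁v, Subgroup.mem_centralizer_singleton_iff.1 s.2.2, mul_inv_cancel_right]
  -- double counting
  calc (Nat.card T : ℂ) * ∑ x ∈ Finset.univ.filter (fun x : G => ∃ k, orderOf x = p ^ k),
        (Nat.card (cen x) : ℂ) * sectionWeight p M B Lam x
      = ∑ a ∈ S, ((Nat.card (cen a.1) : ℂ) * (Nat.card T : ℂ)) * W a := by
        simp only [sectionWeight, Finset.mul_sum, S, Finset.sum_sigma]
        exact Finset.sum_congr rfl fun x _ => Finset.sum_congr rfl fun b _ => by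
          simp only [W]; ring
    _ = ∑ g : G, ∑ v : P, (Tv v : ℂ) * ∑ a ∈ S, (if rel g v a then W a else 0) := by
        simp only [Finset.mul_sum]
        rw [Finset.sum_congr rfl fun a ha => by rw [← hfibre a ha, Finset.sum_mul]]
        rw [Finset.sum_comm]
        refine Finset.sum_congr rfl fun g _ => ?_
        rw [Finset.sum_comm (s := (Finset.univ : Finset P))]
        refine Finset.sum_congr rfl fun a _ => ?_
        rw [Finset.sum_mul]
        exact Finset.sum_congr rfl fun v _ => by split_ifs <;> simp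
    _ = _ := by
        simp only [hone, Finset.sum_const, Finset.card_univ, nsmul_eq_mul, Nat.card_eq_fintype_card,
          Finset.mul_sum]
        exact Finset.sum_congr rfl fun v _ => by
          simp only [Tv, Nat.card_eq_fintype_card]; ring

end Cfsg.Agent.H80.Watanabe
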